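import Cfsg.Agent.H587.UF.Main
import Cfsg.Agent.H744.EP.Ten

/-!
# The row S5842 of S3499 (helper587)
-/

set_option autoImplicit false

namespace Cfsg.Agent.H587.UF

open Cfsg Cfsg.Geo Cfsg.Agent.H284 Cfsg.Agent.H419.EP Cfsg.Agent.H59.EP Cfsg.Agent.H587.EP
open scoped MatrixGroups

/-- **Row S5842.** -/
theorem row_fin (hg : TwoGen.{0}) {F : Type} [Field F] [Fintype F] {q : ℕ} (hR : TenU.R5842 F q)
    {Q : Type} [Group Q] [Finite Q] (hs : IsSimpleGroup Q) {A : Subgroup Q} {Γ : Subgroup (MulAut Q)} (h : EPT A Γ)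
    (m : Model Q (Cfsg.GU 10 F q ⊓ Cfsg.Geo.specialLinear (Fin 10) F)) (hF : Fintype.card F = q ^ 2)
    (hres : Cfsg.Geo.InUnitaryResidualClass (m.hat A)) : False :=
  row_own5 hg (fun {_} _ _ hs {_} {_} h {_} _ _ {_} {_} hF hp hFp h5 m hS =>
      Cfsg.Agent.H744.EP.hown3_su hg hs h hF hp hFp h5 m hS)
    (fun {_} _ _ hs {_} {_} h {_} _ _ {_} {_} hF hp hFp h3 m hS =>
      Cfsg.Agent.H744.EP.hown4_su hg hs h hF hp hFp h3 m hS)
    hR hs h m hF hres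

end Cfsg.Agent.H587.UF
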