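import Cfsg.Agent.H587.UF.Syl
import Cfsg.Agent.H587.EP.Idx
import Cfsg.Agent.S0815
import Cfsg.Agent.S0280

/-!
# `U_5(2) < U_10(2)` (helper587)
-/

set_option autoImplicit false

namespace Cfsg.Agent.H587.UF

open Cfsg Cfsg.Geo Cfsg.Agent.H284 Cfsg.Agent.H419.EP Cfsg.Agent.H59.EP Cfsg.Agent.H587.EP
open scoped MatrixGroups

theorem card_psu5 {F : Type} [Field F] [Fintype F] (hK : Fintype.card F = 2 ^ 2) :
    Nat.card (PSU 5 F 2) = 13685760 := by
  have h := S0280.result hK 5 (by norm_num)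
  simp only [Finset.prod_range_succ, Finset.prod_range_zero, one_mul, Nat.even_iff] at h
  norm_num at h
  omega

theorem card_aut_psu5 {F : Type} [Field F] [Fintype F] (hK : Fintype.card F = 2 ^ 2) :
    Nat.card (MulAut (PSU 5 F 2)) ≤ 13685760 * 2 := by
  have : Fact (Nat.Prime 2) := ⟨Nat.prime_two⟩
  rw [S0815.result 2 1 le_rfl (by norm_num) hK 5 (by norm_num) (by omega), card_psu5 hK]
  norm_num

/-- **The case `q = 2`.** -/
theorem not_two (hg : TwoGen.{0}) {F : Type} [Field F] [Fintype F] (hK : Fintype.card F = 2 ^ 2)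
    {Q : Type} [Group Q] [Finite Q] (hs : IsSimpleGroup Q) {A : Subgroup Q} {Γ : Subgroup (MulAut Q)} (h : EPT A Γ)
    (m : Model Q (GU 10 F 2 ⊓ specialLinear (Fin 10) F)) (hL : IsSimpleGroup (PSU 5 F 2))
    (hA : HasSoc A (PSU 5 F 2)) : False := by
  have : Finite (PSU 5 F 2) := Quotient.finite _
  have hp : ¬ (Nat.card (PSU 5 F 2)).Prime := by rw [card_psu5 hK]; norm_num
  have hab : ∀ K : Subgroup Q, K ≤ A → (∀ a ∈ A, ∀ k ∈ K, a * k * a⁻¹ ∈ K) → (∀ a ∈ K, ∀ b ∈ K, a * b = b * a) →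
      K = ⊥ := fun K hK hKn hKa => hA.no_abelian hL (not_comm_of_card hL hp) hK hKn hKa
  have hQ := TenU.card_ten hK m
  have hm := A.card_mul_index
  norm_num at hQ
  rw [hQ] at hm
  rcases card_eq_or hA (card_psu5 hK) (card_aut_psu5 hK) with h1 | h1
  · have h2 := index_le_syl hs h hg hab [(2, 10), (3, 5), (5, 1), (11, 1)] (by decide) (by decide) (by decide)
      (by rw [h1]; norm_num)
    rw [h1] at h2 hm
    have h3 : 1 + (([(2, 10), (3, 5), (5, 1), (11, 1)].map fun x : ℕ × ℕ => gal x.1 x.2 * (13685760 / x.1 ^ x.2)).sum +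
        13685760 ^ 2 / 60) * (2 * (13685760 / 6)) ≤ 10 ^ 20 := by decide
    have h4 := h2.trans h3
    omega
  · have h2 := index_le_syl hs h hg hab [(2, 11), (3, 5), (5, 1), (11, 1)] (by decide) (by decide) (by decide)
      (by rw [h1]; norm_num)
    rw [h1] at h2 hm
    have h3 : 1 + (([(2, 11), (3, 5), (5, 1), (11, 1)].map fun x : ℕ × ℕ => gal x.1 x.2 *
        (13685760 * 2 / x.1 ^ x.2)).sum + (13685760 * 2) ^ 2 / 60) * (2 * (13685760 * 2 / 6)) ≤ 2 * 10 ^ 21 := by decide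
    have h4 := h2.trans h3
    omega

end Cfsg.Agent.H587.UF
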