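import Cfsg.Agent.H587.UF.Three
import Cfsg.Agent.H587.UF.Two

/-!
# `U_5(q) < U_10(q)` (helper587): `own5`; the row S5842 with `own5` : `row_own5`
-/

set_option autoImplicit false

namespace Cfsg.Agent.H587.UF

open Cfsg Cfsg.Geo Cfsg.Agent.H284 Cfsg.Agent.H419.EP Cfsg.Agent.H59.EP Cfsg.Agent.H587.EP
open scoped MatrixGroups

/-- **`U_5(q) < U_10(q)`**, all `q`. -/
theorem own5 (hg : TwoGen.{0}) {Q : Type} [Group Q] [Finite Q] (hs : IsSimpleGroup Q) {A : Subgroup Q}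
    {Γ : Subgroup (MulAut Q)} (h : EPT A Γ) {F : Type} [Field F] [Fintype F] {q : ℕ} (hF : Fintype.card F = q ^ 2)
    (m : Model Q (GU 10 F q ⊓ specialLinear (Fin 10) F)) {P : Subgroup (GL (Fin 10) F)}
    (hP : IsResidualCore (m.hat A) P) (e : (P ⧸ (scalars (Fin 10) F).subgroupOf P) ≃* PSU 5 F q) : False := by
  have h2 : 2 ≤ q := Cfsg.Agent.H876.D3.two_le_q hF
  rcases h2.lt_or_eq with h3 | rfl
  · exact not_three h hF h3 m hP e
  · have hL : IsSimpleGroup (PSU 5 F 2) := by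
      have := hP.simple
      exact e.symm.isSimpleGroup
    exact not_two hg hF hs h m hL ((hasSoc_of_core m hP).congr e)

/-- **Row S5842**, with the own characteristic cases `U_3(q)`, `U_4(q)` as hypotheses. -/
theorem row_own5 (hg : TwoGen.{0})
    (hown3 : ∀ {Q : Type} [Group Q] [Finite Q], IsSimpleGroup Q → ∀ {A : Subgroup Q} {Γ : Subgroup (MulAut Q)},
      EPT A Γ → ∀ {F : Type} [Field F] [Fintype F] {q p : ℕ}, Fintype.card F = q ^ 2 → p.Prime → CharP F p → 5 ≤ p →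
      Model Q (Cfsg.GU 10 F q ⊓ Cfsg.Geo.specialLinear (Fin 10) F) → HasSoc A (Cfsg.PSU 3 F q) → False)
    (hown4 : ∀ {Q : Type} [Group Q] [Finite Q], IsSimpleGroup Q → ∀ {A : Subgroup Q} {Γ : Subgroup (MulAut Q)},
      EPT A Γ → ∀ {F : Type} [Field F] [Fintype F] {q p : ℕ}, Fintype.card F = q ^ 2 → p.Prime → CharP F p → 3 ≤ p →
      Model Q (Cfsg.GU 10 F q ⊓ Cfsg.Geo.specialLinear (Fin 10) F) → HasSoc A (Cfsg.PSU 4 F q) → False)
    {F : Type} [Field F] [Fintype F] {q : ℕ} (hR : TenU.R5842 F q)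
    {Q : Type} [Group Q] [Finite Q] (hs : IsSimpleGroup Q) {A : Subgroup Q} {Γ : Subgroup (MulAut Q)} (h : EPT A Γ)
    (m : Model Q (Cfsg.GU 10 F q ⊓ Cfsg.Geo.specialLinear (Fin 10) F)) (hF : Fintype.card F = q ^ 2)
    (hres : Cfsg.Geo.InUnitaryResidualClass (m.hat A)) : False := by
  obtain ⟨P, p, hP, hp, hFp, hcase⟩ := hR _ (m.isMaximalIn h.max) hres
  by_cases h5 : Nonempty ((P ⧸ (Cfsg.Geo.scalars (Fin 10) F).subgroupOf P) ≃* Cfsg.PSU 5 F q)
  · exact own5 hg hs h hF m hP h5.some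
  have hsoc := hasSoc_of_core m hP
  have hp2 := hp.two_le
  rcases hcase with ⟨⟨e⟩, rfl, hq2, -⟩ | ⟨⟨e⟩, rfl, hq⟩ | ⟨⟨e⟩, rfl, hq⟩ | ⟨⟨e⟩, hq⟩ | ⟨⟨e⟩, hq⟩ | h6
  · have h1 := TenU.index_ge (hsoc.congr e) TenU.aut_l219.le (TenU.index_l219 hs h (hsoc.congr e))
    have h2 := TenU.card_ten_le hF (by omega) m
    norm_num at h1 h2
    omega
  · have := TenU.finite_m12
    have h1 := TenU.index_ge (hsoc.congr e) TenU.aut_m12 ((index_m12 hs h hg (hsoc.congr e)).trans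
      (show 10 ^ 15 ≤ 10 ^ 38 by norm_num))
    have h2 := TenU.card_ten_le hF (by omega) m
    norm_num at h1 h2
    omega
  · have := TenU.finite_m22
    have h1 := TenU.index_ge (hsoc.congr e) TenU.aut_m22 ((index_m22 hs h hg (hsoc.congr e)).trans
      (show 10 ^ 17 ≤ 10 ^ 38 by norm_num))
    have h2 := TenU.card_ten_le hF (by omega) m
    norm_num at h1 h2
    omega
  · exact hown3 hs h hF hp hFp hq m (hsoc.congr e)
  · exact hown4 hs h hF hp hFp hq m (hsoc.congr e)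
  · exact h5 h6

end Cfsg.Agent.H587.UF
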