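import Cfsg.Agent.H59.EP.UBGen
import Cfsg.Agent.H173.EP.LineBound

/-!
# UB2 with the numbers of Sylow subgroups (helper587)

`r ≤ ∑_s gal s (v_s |A|) * |A|_{s'} + |A| ^ 2 / 60`.
-/

set_option autoImplicit false

namespace Cfsg.Agent.H587.UF

open Subgroup Cfsg.Agent.H284 Cfsg.Agent.H59.EP

section count

variable {B : Type*} [Group B]

theorem ncard_biUnion_le {α β : Type*} [Finite β] (I : Finset α) (f : α → Set β) :
    (⋃ i ∈ I, f i).ncard ≤ ∑ i ∈ I, (f i).ncard := by
  classical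
  induction I using Finset.induction_on with
  | empty => simp
  | insert j I hj ih =>
    rw [Finset.sum_insert hj, Finset.set_biUnion_insert]
    exact (Set.ncard_union_le _ _).trans (Nat.add_le_add_left ih _)

/-- the number of elementary abelian `s`-subgroups -/
theorem ncard_elab_syl [Finite B] {s : ℕ} (hs : s.Prime) :
    {X : Subgroup B | ElAb s X ∧ X ≠ ⊥}.ncard ≤
      gal s ((Nat.card B).factorization s) * (Nat.card B / s ^ (Nat.card B).factorization s) := by
  classical
  have : Fact s.Prime := ⟨hs⟩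
  have : Fintype (Sylow s B) := Fintype.ofFinite _
  let P : Sylow s B := default
  have hP : ∀ P : Sylow s B, Nat.card (P : Subgroup B) = s ^ (Nat.card B).factorization s :=
    fun P => P.card_eq_multiplicity
  have hsub : {X : Subgroup B | ElAb s X ∧ X ≠ ⊥} ⊆
      ⋃ P ∈ (Finset.univ : Finset (Sylow s B)), {E : Subgroup B | E ≤ (P : Subgroup B) ∧ ElAb s E ∧ E ≠ ⊥} := by
    rintro X ⟨h1, h2⟩
    have hps : IsPGroup s X := by
      rintro ⟨y, hy⟩
      refine ⟨1, Subtype.ext ?_⟩
      rw [pow_one]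
      exact h1.exp y hy
    obtain ⟨R, hR⟩ := hps.exists_le_sylow
    simp only [Set.mem_iUnion]
    exact ⟨R, Finset.mem_univ _, hR, h1, h2⟩
  refine (Set.ncard_le_ncard hsub (Set.toFinite _)).trans ((ncard_biUnion_le _ _).trans ?_)
  refine (Finset.sum_le_card_nsmul _ _ _ fun P _ => ncard_elab_le hs (hP P)).trans ?_
  rw [smul_eq_mul, mul_comm]
  apply Nat.mul_le_mul_left
  rw [Finset.card_univ, ← Nat.card_eq_fintype_card]
  have h1 := P.card_dvd_index
  have h2 : (P : Subgroup B).index = Nat.card B / s ^ (Nat.card B).factorization s := by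
    rw [← hP P]
    exact (Nat.div_eq_of_eq_mul_right Nat.card_pos (P : Subgroup B).card_mul_index.symm).symm
  rw [← h2]
  exact Nat.le_of_dvd (Nat.pos_of_ne_zero Subgroup.index_ne_zero_of_finite) h1

/-- **Counting theorem** with the numbers of Sylow subgroups. -/
theorem ncard_le_syl [Finite B] (h5 : ∀ p, p.Prime → 5 ≤ p → ¬ p ^ 2 ∣ Nat.card B)
    (hgen : ∀ X : Subgroup B, IsSimpleGroup X → ∃ a b : X, closure ({a, b} : Set X) = ⊤)
    {𝓜 : Set (Subgroup B)} (hnt : ∀ M ∈ 𝓜, M ≠ ⊥)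
    (hch : ∀ M ∈ 𝓜, ∀ K : Subgroup M, K.Characteristic → K ≠ ⊥ → ∀ b : B,
      (∀ k ∈ K.map M.subtype, b * k * b⁻¹ ∈ K.map M.subtype) → b ∈ M) :
    𝓜.ncard ≤ (∑ s ∈ (Nat.card B).primeFactors, gal s ((Nat.card B).factorization s) *
      (Nat.card B / s ^ (Nat.card B).factorization s)) + Nat.card B ^ 2 / 60 := by
  classical
  -- the minimal characteristic subgroup
  have key : ∀ M ∈ 𝓜, ∃ X : Subgroup B, normalizer (X : Set B) = M ∧
      ((∃ s ∈ (Nat.card B).primeFactors, ElAb s X ∧ X ≠ ⊥) ∨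
        ((IsSimpleGroup X ∧ ¬ Group.IsSolvable X) ∧ ∃ a b : X, closure ({a, b} : Set X) = ⊤)) := by
    intro M hM
    have hMn : Nontrivial M := (Subgroup.nontrivial_iff_ne_bot M).2 (hnt M hM)
    obtain ⟨Y, hY, hYne, hYmin⟩ := exists_min_char (B := M)
    have hYn : Nontrivial Y := (Subgroup.nontrivial_iff_ne_bot Y).2 hYne
    have hYc : ∀ Z : Subgroup Y, Z.Characteristic → Z = ⊥ ∨ Z = ⊤ := by
      intro Z hZ
      by_cases hZb : Z = ⊥
      · exact Or.inl hZb
      right
      have h1 := hYmin (Z.map Y.subtype) char_trans (by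
        rintro _ ⟨z, _, rfl⟩
        exact z.2) (by
        intro e
        rw [Subgroup.map_eq_bot_iff_of_injective _ Y.subtype_injective] at e
        exact hZb e)
      rw [Subgroup.eq_top_iff']
      intro y
      have h2 : (y : M) ∈ Z.map Y.subtype := by rw [h1]; exact y.2
      obtain ⟨z, hz, e⟩ := h2
      have : z = y := Subtype.ext e
      rw [← this]
      exact hz
    set X : Subgroup B := Y.map M.subtype with hX
    have hcard : Nat.card X = Nat.card Y :=
      (Nat.card_congr (Y.equivMapOfInjective _ M.subtype_injective).toEquiv).symm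
    have e : Y ≃* X := Y.equivMapOfInjective _ M.subtype_injective
    have hXB : Nat.card Y ∣ Nat.card B := by
      rw [← hcard]
      exact Subgroup.card_subgroup_dvd_card X
    have hXne : X ≠ ⊥ := by
      intro e
      rw [hX, Subgroup.map_eq_bot_iff_of_injective _ M.subtype_injective] at e
      exact hYne e
    refine ⟨X, ?_, ?_⟩
    · apply le_antisymm
      · intro b hb
        exact hch M hM Y hY hYne b fun k hk => (mem_normalizer_iff.1 hb k).1 hk
      · intro m hm
        have hn : Y.Normal := inferInstance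
        rw [mem_normalizer_iff]
        have key : ∀ m ∈ M, ∀ k ∈ X, m * k * m⁻¹ ∈ X := by
          rintro m hm _ ⟨k, hk, rfl⟩
          exact ⟨_, hn.conj_mem k hk ⟨m, hm⟩, rfl⟩
        intro k
        refine ⟨key m hm k, fun h => ?_⟩
        have := key m⁻¹ (M.inv_mem hm) _ h
        have e : m⁻¹ * (m * k * m⁻¹) * m⁻¹⁻¹ = k := by group
        rwa [e] at this
    · rcases char_simple hYc (fun p hp hp5 hd => h5 p hp hp5 (hd.trans hXB)) with ⟨s, hs, hsd, hel⟩ | ⟨h1, h2⟩
      · left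
        refine ⟨s, Nat.mem_primeFactors.2 ⟨hs, hsd.trans hXB, Nat.card_pos.ne'⟩, ⟨?_, ?_⟩, hXne⟩
        · rintro _ ⟨a, ha, rfl⟩ _ ⟨b, hb, rfl⟩
          have := hel.comm ⟨a, ha⟩ (mem_top _) ⟨b, hb⟩ (mem_top _)
          have h1 : a * b = b * a := Subtype.ext_iff.1 this
          rw [← map_mul, ← map_mul, h1]
        · rintro _ ⟨a, ha, rfl⟩
          have := hel.exp ⟨a, ha⟩ (mem_top _)
          have h1 : a ^ s = 1 := Subtype.ext_iff.1 this
          rw [← map_pow, h1, map_one]
      · right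
        have hXs : IsSimpleGroup X := e.symm.isSimpleGroup
        refine ⟨⟨hXs, fun h => h2 ?_⟩, hgen X hXs⟩
        exact Group.isSolvable_of_isSolvable_injective (f := e.toMonoidHom) e.injective
  choose! f hf1 hf2 using key
  have hinj : Set.InjOn f 𝓜 := by
    intro M hM N hN e
    rw [← hf1 M hM, ← hf1 N hN, e]
  rw [← hinj.ncard_image]
  have hsub : f '' 𝓜 ⊆ (⋃ s ∈ (Nat.card B).primeFactors, {X : Subgroup B | ElAb s X ∧ X ≠ ⊥}) ∪
      {X : Subgroup B | (IsSimpleGroup X ∧ ¬ Group.IsSolvable X) ∧ ∃ a b : X, closure ({a, b} : Set X) = ⊤} := by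
    rintro _ ⟨M, hM, rfl⟩
    rcases hf2 M hM with ⟨s, hs, h1, h2⟩ | h
    · left
      simp only [Set.mem_iUnion]
      exact ⟨s, hs, h1, h2⟩
    · right
      exact h
  refine (Set.ncard_le_ncard hsub (Set.toFinite _)).trans ((Set.ncard_union_le _ _).trans (Nat.add_le_add ?_ ?_))
  · exact (ncard_biUnion_le _ _).trans
      (Finset.sum_le_sum fun s hs => ncard_elab_syl (Nat.prime_of_mem_primeFactors hs))
  · exact ncard_simple_le (fun X hX => hX.1) (fun X hX => hX.2)

end count

section eval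

variable (g : ℕ → ℕ → ℕ)

/-- `∑_{s ∣ n} g s (v_s n)` -/
def gSum (n : ℕ) : ℕ := ∑ s ∈ n.primeFactors, g s (n.factorization s)

theorem gSum_mul {p e m : ℕ} (hp : p.Prime) (he : 0 < e) (hm : m ≠ 0) (hpm : ¬ p ∣ m) :
    gSum g (p ^ e * m) = g p e + gSum g m := by
  have hpe : p ^ e ≠ 0 := pow_ne_zero _ hp.ne_zero
  have h1 : (p ^ e * m).primeFactors = insert p m.primeFactors := by
    rw [Nat.primeFactors_mul hpe hm, Nat.primeFactors_prime_pow he.ne' hp]
    rfl
  have h2 : p ∉ m.primeFactors := fun h => hpm (Nat.dvd_of_mem_primeFactors h)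
  rw [gSum, h1, Finset.sum_insert h2]
  congr 1
  · congr 1
    rw [Nat.factorization_mul hpe hm, Finsupp.add_apply, hp.factorization_pow, Finsupp.single_eq_same,
      Nat.factorization_eq_zero_of_not_dvd hpm, add_zero]
  · apply Finset.sum_congr rfl
    intro s hs
    congr 1
    have hsp : s ≠ p := by
      rintro rfl
      exact h2 hs
    rw [Nat.factorization_mul hpe hm, Finsupp.add_apply, hp.factorization_pow, Finsupp.single_eq_of_ne hsp,
      zero_add]

theorem gSum_list (l : List (ℕ × ℕ)) (h1 : ∀ x ∈ l, x.1.Prime ∧ 0 < x.2) (h2 : (l.map Prod.fst).Nodup) :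
    gSum g (l.map fun x => x.1 ^ x.2).prod = (l.map fun x => g x.1 x.2).sum := by
  induction l with
  | nil => simp [gSum]
  | cons x l ih =>
    have h1' : ∀ y ∈ l, y.1.Prime ∧ 0 < y.2 := fun y hy => h1 y (List.mem_cons_of_mem _ hy)
    rw [List.map_cons, List.nodup_cons] at h2
    obtain ⟨_, i2, i3⟩ := galSum_list l h1' h2.2
    obtain ⟨hx, hx0⟩ := h1 x List.mem_cons_self
    have hnd : ¬ x.1 ∣ (l.map fun x => x.1 ^ x.2).prod := fun hd => h2.1 (i3 _ hx hd)
    rw [List.map_cons, List.map_cons, List.prod_cons, List.sum_cons, gSum_mul g hx hx0 i2 hnd, ih h1' h2.2]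

end eval

universe u

variable {Q : Type u} [Group Q] [Finite Q] {A : Subgroup Q} {Γ : Subgroup (MulAut Q)}

/-- **UB1 + UB2** with Sylow numbers, `|A|` given by its factorisation `l` -/
theorem index_le_syl (hs : IsSimpleGroup Q) (h : EPT A Γ) (hg : TwoGen.{u})
    (hab : ∀ K : Subgroup Q, K ≤ A → (∀ a ∈ A, ∀ k ∈ K, a * k * a⁻¹ ∈ K) → (∀ a ∈ K, ∀ b ∈ K, a * b = b * a) → K = ⊥)
    (l : List (ℕ × ℕ)) (h1 : ∀ x ∈ l, x.1.Prime ∧ 0 < x.2) (h2 : (l.map Prod.fst).Nodup)
    (h5 : ∀ x ∈ l, 5 ≤ x.1 → x.2 = 1) (hc : Nat.card A = (l.map fun x => x.1 ^ x.2).prod) :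
    A.index ≤ 1 + ((l.map fun x => gal x.1 x.2 * (Nat.card A / x.1 ^ x.2)).sum + Nat.card A ^ 2 / 60) *
      (2 * (Nat.card A / 6)) := by
  obtain ⟨𝓜, k1, -, k3, -, k4⟩ := EPT.transfer h (μ := 1) one_pos (fun x _ => Nat.card_pos)
  have hr := k1.trans (ncard_le_syl (by rw [hc]; exact not_sq_dvd_list l h1 h2 h5) (fun X hX => hg X) k3 k4)
  have h4 : ∑ s ∈ (Nat.card A).primeFactors, gal s ((Nat.card A).factorization s) *
      (Nat.card A / s ^ (Nat.card A).factorization s) =
      (l.map fun x => gal x.1 x.2 * (Nat.card A / x.1 ^ x.2)).sum := by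
    have := gSum_list (fun s a => gal s a * (Nat.card A / s ^ a)) l h1 h2
    rw [← hc] at this
    exact this
  rw [h4] at hr
  exact index_le_of hr (Cfsg.Agent.H173.EP.ub1 hs h (by norm_num) fun _ hx => EPT.six_le h hab hx) le_rfl

example : gal 2 10 = 229755604 := by decide
example : gal 2 11 = 8933488743 := by decide

end Cfsg.Agent.H587.UF
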